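import Cfsg.Prelude.Def_OddOrderLocal
import Cfsg.Agent.OddOrder.PF9.TypeP
import Cfsg.Agent.OddOrder.WeakType

/-!
# The sets A₁(M), A(M), A₀(M): elementary properties
-/

set_option autoImplicit false

namespace Cfsg.Agent.OddOrder.PF8

open Subgroup
open Cfsg.Agent.OddOrder

variable {G : Type*} [Group G] {M : Subgroup G}

theorem typeCore_le (M : Subgroup G) : Cfsg.typeCore M ≤ M := by
  rw [Cfsg.typeCore]
  split
  · exact TypeP.derived_le M
  · exact TypeP.core_le M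

theorem le_normalizer_typeCore (M : Subgroup G) :
    M ≤ normalizer (Cfsg.typeCore M : Set G) := by
  rw [Cfsg.typeCore]
  split
  · exact TypeP.le_normalizer_derived M
  · exact TypeP.le_normalizer_core M

theorem typeA_subset (M : Subgroup G) : setA M ⊆ (M : Set G) := by
  intro a ha
  rw [setA] at ha
  split at ha
  · exact ha.1
  · exact TypeP.derived_le M ha.1

theorem one_not_mem_typeA (M : Subgroup G) : (1 : G) ∉ setA M := by
  intro ha
  rw [setA] at ha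
  split at ha <;> exact ha.2.1 rfl

theorem typeA0_subset (M : Subgroup G) : setA0 M ⊆ (M : Set G) := by
  rintro a (ha | ⟨-, W₁, U, W₂, hP, m, hm, w, hw, -, -, rfl⟩)
  · exact typeA_subset M ha
  · exact mul_mem (mul_mem hm (sup_le (TypeP.W₁_le hP) (TypeP.W₂_le hP) hw)) (inv_mem hm)

theorem one_not_mem_typeA0 (M : Subgroup G) : (1 : G) ∉ setA0 M := by
  rintro (ha | ⟨-, W₁, U, W₂, -, m, -, w, -, hw, -, e⟩)
  · exact one_not_mem_typeA M ha
  · refine hw ?_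
    have : w = 1 := by
      calc w = m⁻¹ * (m * w * m⁻¹) * m := by group
        _ = 1 := by rw [← e]; group
    rw [this]
    exact one_mem _

theorem conj_commute {a x m : G} (h : a * x = x * a) :
    (m * a * m⁻¹) * (m * x * m⁻¹) = (m * x * m⁻¹) * (m * a * m⁻¹) := by
  have e1 : (m * a * m⁻¹) * (m * x * m⁻¹) = m * (a * x) * m⁻¹ := by group
  have e2 : (m * x * m⁻¹) * (m * a * m⁻¹) = m * (x * a) * m⁻¹ := by group
  rw [e1, e2, h]

theorem conj_ne_one {a m : G} (h : a ≠ 1) : m * a * m⁻¹ ≠ 1 := fun e => h (by simpa using e)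

theorem conj_mem_typeA {m a : G} (hm : m ∈ M) (ha : a ∈ setA M) :
    m * a * m⁻¹ ∈ setA M := by
  rw [setA] at ha ⊢
  split at ha
  · next h =>
    obtain ⟨haM, ha1, x, hx, hx1, hax⟩ := ha
    rw [if_pos h]
    exact ⟨mul_mem (mul_mem hm haM) (inv_mem hm), conj_ne_one ha1, m * x * m⁻¹,
      Coprime.conj_mem (TypeP.le_normalizer_core M hm) hx, conj_ne_one hx1, conj_commute hax⟩
  · next h =>
    obtain ⟨haM, ha1, x, hx, hx1, hax⟩ := ha
    rw [if_neg h]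
    exact ⟨Coprime.conj_mem (TypeP.le_normalizer_derived M hm) haM, conj_ne_one ha1, m * x * m⁻¹,
      Coprime.conj_mem (le_normalizer_typeCore M hm) hx, conj_ne_one hx1, conj_commute hax⟩

theorem conj_mem_typeA1 {m a : G} (hm : m ∈ M) (ha : a ∈ Cfsg.typeA1 M) :
    m * a * m⁻¹ ∈ Cfsg.typeA1 M :=
  ⟨Coprime.conj_mem (le_normalizer_typeCore M hm) ha.1, conj_ne_one ha.2⟩

theorem conj_mem_typeA0 {m a : G} (hm : m ∈ M) (ha : a ∈ setA0 M) :
    m * a * m⁻¹ ∈ setA0 M := by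
  rcases ha with ha | ⟨hI, W₁, U, W₂, hP, n, hn, w, hw, hw1, hw2, rfl⟩
  · exact Or.inl (conj_mem_typeA hm ha)
  · exact Or.inr ⟨hI, W₁, U, W₂, hP, m * n, mul_mem hm hn, w, hw, hw1, hw2, by group⟩

theorem typeA_subset_typeA0 (M : Subgroup G) : setA M ⊆ setA0 M :=
  Set.subset_union_left

theorem derived_commute_of_fpf {W₁ U : Subgroup G} (hWU : W₁ ≤ normalizer (U : Set G))
    (hfpf : ∀ x ∈ W₁, x ≠ 1 → ∀ u ∈ U, x * u = u * x → u = 1) {x u : G} (hx : x ∈ W₁) (hx1 : x ≠ 1)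
    (hu : u ∈ U) (h : (u * x * u⁻¹) * x = x * (u * x * u⁻¹)) : u = 1 := by
  have hc : u * x * u⁻¹ * x⁻¹ ∈ U := by
    rw [show u * x * u⁻¹ * x⁻¹ = u * (x * u⁻¹ * x⁻¹) by group]
    exact mul_mem hu (Coprime.conj_mem (hWU hx) (inv_mem hu))
  have hcc : x * (u * x * u⁻¹ * x⁻¹) = (u * x * u⁻¹ * x⁻¹) * x := by
    have e2 : x * (u * x * u⁻¹ * x⁻¹) = (x * (u * x * u⁻¹)) * x⁻¹ := by group
    rw [e2, ← h]
    group
  have h1 := hfpf x hx hx1 _ hc hcc
  refine hfpf x hx hx1 u hu ?_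
  calc x * u = (u * x * u⁻¹ * x⁻¹)⁻¹ * (u * x) := by group
    _ = u * x := by rw [h1]; group

variable [Finite G]

/-- A subgroup of Type I has no type-P data with `U ≠ 1`. -/
theorem typeI_U_eq_bot {W₁ U W₂ : Subgroup G} (hI : IsTypeI M)
    (hP : Cfsg.IsTypePWith M W₁ U W₂) : U = ⊥ := by
  obtain ⟨-, -, -, -, E, -, hEc, ⟨U₁, -, hEU₁, hU₁c, hU₁⟩, -⟩ := hI.1
  set E' := E.map M.subtype with hE'
  have hE'M : E' ≤ M := map_subtype_le _
  have hcard : Nat.card E' = Nat.card ↥(U ⊔ W₁) := by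
    rw [hE', Cores.card_map_eq _ M.subtype_injective, TypeP.card_compl hP, ← TypeP.index_core hP]
    exact hEc.symm.index_eq_card.symm
  have hcop : (Nat.card ↥(U ⊔ W₁)).Coprime (Nat.card (Cfsg.fittingHallOf M)) := by
    rw [TypeP.card_compl hP]
    exact (TypeP.coprime_core_compl hP).symm
  obtain ⟨h, hh, hEh⟩ := Coprime.exists_conj_of_solvable_kernel _ (Cfsg.fittingHallOf M) (U ⊔ W₁) E'
    le_rfl (TypeP.core_solvable M) ((TypeP.compl_le hP).trans (TypeP.le_normalizer_core M))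
    (hE'M.trans (TypeP.core_sup_compl hP).ge) hcard hcop
  have hhM : h ∈ M := TypeP.core_le M hh
  have key : ∀ z ∈ U ⊔ W₁, ∃ y : M, y ∈ E ∧ (y : G) = h * z * h⁻¹ := by
    intro z hz
    have h1 : h * z * h⁻¹ ∈ E' := hEh ▸ mem_map_of_mem _ hz
    obtain ⟨y, hy, hye⟩ := h1
    exact ⟨y, hy, hye⟩
  obtain ⟨⟨w, hw⟩, hw1⟩ := (nontrivial_iff_exists_ne (1 : W₂)).1
    ((nontrivial_iff_ne_bot _).2 hP.selfNormalizing.2.1)
  have hw1' : w ≠ 1 := fun e => hw1 (Subtype.ext e)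
  obtain ⟨⟨x, hx⟩, hx1⟩ := (nontrivial_iff_exists_ne (1 : W₁)).1
    ((nontrivial_iff_ne_bot _).2 hP.W₁_ne)
  have hx1' : x ≠ 1 := fun e => hx1 (Subtype.ext e)
  obtain ⟨w', hw', hw'e⟩ : ∃ y : M, y ∈ Cfsg.fittingHall M ∧ (y : G) = h * w * h⁻¹ := by
    have h1 : h * w * h⁻¹ ∈ Cfsg.fittingHallOf M :=
      Coprime.conj_mem (TypeP.le_normalizer_core M hhM) (TypeP.W₂_le_core hP hw)
    obtain ⟨y, hy, hye⟩ := h1
    exact ⟨y, hy, hye⟩
  obtain ⟨x', hx', hx'e⟩ := key x (mem_sup_right hx)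
  have hxU₁ : x' ∈ U₁ := by
    refine hU₁ w' hw' ?_ ⟨hx', ?_⟩
    · intro e
      rw [e, coe_one] at hw'e
      exact conj_ne_one hw1' hw'e.symm
    · refine mem_centralizer_singleton_iff.2 ?_
      apply Subtype.ext
      simp only [coe_mul, hx'e, hw'e]
      exact conj_commute (TypeP.W₂_commute hP hx hw)
  refine (eq_bot_iff_forall _).2 fun u hu => ?_
  refine derived_commute_of_fpf hP.U_normal (fun a ha ha1 v hv => TypeP.fpf_U hP ha ha1 hv)
    hx hx1' hu ?_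
  obtain ⟨u', hu', hu'e⟩ := key u (mem_sup_left hu)
  have h2 : u' * x' * u'⁻¹ ∈ U₁ := Coprime.conj_mem (hEU₁ hu') hxU₁
  have h3 := congrArg (Subtype.val : M → G) (congrArg Subtype.val (hU₁c.is_comm.comm ⟨_, h2⟩ ⟨_, hxU₁⟩))
  simp only [coe_mul, coe_inv, hx'e, hu'e] at h3
  apply (MulAut.conj h).injective
  simp only [MulAut.conj_apply]
  convert h3 using 1 <;> group

theorem not_typeIII_IV_of_typeI (hI : IsTypeI M) :
    ¬ (Cfsg.IsOfTypeIII M ∨ Cfsg.IsOfTypeIV M) := by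
  rintro (⟨W₁, U, W₂, hP, hU, -⟩ | ⟨W₁, U, W₂, hP, hU, -⟩) <;> exact hU (typeI_U_eq_bot hI hP)

theorem not_typeIII_IV_of_typeII (hII : Cfsg.IsOfTypeII M) :
    ¬ (Cfsg.IsOfTypeIII M ∨ Cfsg.IsOfTypeIV M) := by
  obtain ⟨W₁, U, W₂, hP, -, -, -, -, hN, -, -⟩ := hII
  rintro (⟨W₁', U', W₂', hP', -, -, -, -, hN'⟩ | ⟨W₁', U', W₂', hP', -, -, -, -, hN'⟩) <;>
  · obtain ⟨m, hm, -, rfl, -⟩ := TypeP.conj_data hP hP'
    refine hN fun g hg => ?_
    have hmM : m ∈ M := TypeP.derived_le M hm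
    have h1 : m * g * m⁻¹ ∈ normalizer ((U.map (MulAut.conj m).toMonoidHom : Subgroup G) : Set G) := by
      rw [← map_equiv_normalizer_eq]
      exact mem_map_of_mem _ hg
    have h2 := hN' h1
    rw [show g = m⁻¹ * (m * g * m⁻¹) * m by group]
    exact mul_mem (mul_mem (inv_mem hmM) h2) hmM

theorem typeCore_eq_core (h : IsTypeI M ∨ Cfsg.IsOfTypeII M) :
    Cfsg.typeCore M = Cfsg.fittingHallOf M := by
  rw [Cfsg.typeCore, if_neg]
  rcases h with h | h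
  · exact not_typeIII_IV_of_typeI h
  · exact not_typeIII_IV_of_typeII h

/-- A₁ ⊆ A as soon as M_F ≤ M'. -/
theorem typeA1_subset_typeA (hFd : Cfsg.fittingHallOf M ≤ ⁅M, M⁆) :
    Cfsg.typeA1 M ⊆ setA M := by
  rintro a ⟨ha, ha1⟩
  rw [setA]
  split
  · next h =>
    rw [typeCore_eq_core (Or.inl h)] at ha
    exact ⟨TypeP.core_le M ha, ha1, a, ha, ha1, rfl⟩
  · next h =>
    refine ⟨?_, ha1, a, ha, ha1, rfl⟩
    rw [Cfsg.typeCore] at ha
    split at ha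
    · exact ha
    · exact hFd ha

theorem typeA1_subset_typeA0 (hFd : Cfsg.fittingHallOf M ≤ ⁅M, M⁆) :
    Cfsg.typeA1 M ⊆ setA0 M :=
  (typeA1_subset_typeA hFd).trans (typeA_subset_typeA0 M)

end Cfsg.Agent.OddOrder.PF8
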