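import Cfsg.Prelude.Def_OddOrderChar
import Cfsg.Agent.OddOrder.PF8.Sets

/-!
# PF 8: A₁(M), A(M), A₀(M) satisfy the Dade hypothesis with normaliser M

The local input (the supporting-subgroup theorem of the local analysis) enters as an explicit hypothesis.
-/

set_option autoImplicit false

namespace Cfsg.Agent.OddOrder.PF8

open Subgroup
open Cfsg.Agent.OddOrder

variable {G : Type*} [Group G] {M : Subgroup G}

/-- What is used of the supporting-subgroup theorem, for `X = A₀(M)`. -/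
structure Support (M : Subgroup G) : Prop where
  fusion : ∀ x ∈ setA0 M, ∀ g : G, g * x * g⁻¹ ∈ setA0 M →
    ∃ m ∈ M, m * x * m⁻¹ = g * x * g⁻¹
  unique : ∀ x ∈ setA0 M, ¬ centralizer ({x} : Set G) ≤ M →
    x ∈ Cfsg.typeA1 M ∧ ∃! L : Subgroup G, IsCoatom L ∧ centralizer ({x} : Set G) ≤ L
  supporting : ∀ x ∈ setA0 M, ¬ centralizer ({x} : Set G) ≤ M →
    ∀ L : Subgroup G, IsCoatom L → centralizer ({x} : Set G) ≤ L →
      Cfsg.IsComplIn (Cfsg.fittingHallOf L) (M ⊓ L) L ∧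
      centralizer ({x} : Set G) ≤
        normalizer ((Cfsg.fittingHallOf L ⊓ centralizer ({x} : Set G) : Subgroup G) : Set G) ∧
      Cfsg.IsComplIn (Cfsg.fittingHallOf L ⊓ centralizer ({x} : Set G))
        (M ⊓ centralizer ({x} : Set G)) (centralizer ({x} : Set G)) ∧
      (∀ y ∈ setA0 M, (Nat.card (Cfsg.fittingHallOf L)).Coprime
        (Nat.card ↥(M ⊓ centralizer ({y} : Set G)))) ∧
      (x ∈ setA L ∧ x ∉ Cfsg.typeA1 L) ∧
      (IsTypeI L ∨ Cfsg.IsOfTypeII L)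

theorem supportR_eq_bot {x : G} (h : centralizer ({x} : Set G) ≤ M) :
    Cfsg.supportR M x = ⊥ := by
  rw [Cfsg.supportR, dif_neg]
  exact fun h' => h'.1 h

theorem supportR_eq {x : G} (h : ¬ centralizer ({x} : Set G) ≤ M) {L : Subgroup G}
    (hL : IsCoatom L) (hxL : centralizer ({x} : Set G) ≤ L)
    (hu : ∃! L : Subgroup G, IsCoatom L ∧ centralizer ({x} : Set G) ≤ L) :
    Cfsg.supportR M x = Cfsg.fittingHallOf L ⊓ centralizer ({x} : Set G) := by
  have h' : ¬ centralizer ({x} : Set G) ≤ M ∧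
      ∃! L : Subgroup G, IsCoatom L ∧ centralizer ({x} : Set G) ≤ L := ⟨h, hu⟩
  rw [Cfsg.supportR, dif_pos h', hu.unique (Classical.choose_spec h'.2.exists) ⟨hL, hxL⟩]

theorem supportR_le_centralizer (M : Subgroup G) (x : G) :
    Cfsg.supportR M x ≤ centralizer ({x} : Set G) := by
  rw [Cfsg.supportR]
  split
  · exact inf_le_right
  · exact bot_le

/-- The normaliser of a nonempty subset of a maximal subgroup of a simple group, invariant under it. -/
theorem normalizer_eq_of_subset [IsSimpleGroup G] {A : Set G} (hM : IsCoatom M) (hAM : A ⊆ (M : Set G))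
    (hne : ∃ a ∈ A, a ≠ 1) (hinv : ∀ m ∈ M, ∀ a ∈ A, m * a * m⁻¹ ∈ A) :
    normalizer A = M := by
  have hle : M ≤ normalizer A := by
    intro m hm
    rw [mem_set_normalizer_iff]
    intro a
    refine ⟨hinv m hm a, fun h => ?_⟩
    have := hinv m⁻¹ (inv_mem hm) _ h
    rwa [show m⁻¹ * (m * a * m⁻¹) * m⁻¹⁻¹ = a by group] at this
  refine (hM.le_iff.1 hle).resolve_left fun htop => ?_
  have hn : (closure A).Normal := by
    refine ⟨fun y hy g => ?_⟩
    induction hy using closure_induction with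
    | mem a ha =>
      exact subset_closure (((mem_set_normalizer_iff.1 (htop ▸ mem_top g)) a).1 ha)
    | one => simp
    | mul a b _ _ iha ihb =>
      rw [show g * (a * b) * g⁻¹ = (g * a * g⁻¹) * (g * b * g⁻¹) by group]
      exact mul_mem iha ihb
    | inv a _ iha =>
      rw [show g * a⁻¹ * g⁻¹ = (g * a * g⁻¹)⁻¹ by group]
      exact inv_mem iha
  obtain ⟨a, ha, ha1⟩ := hne
  rcases hn.eq_bot_or_eq_top with h | h
  · exact ha1 ((mem_bot).1 (h ▸ subset_closure ha))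
  · exact hM.1 (top_le_iff.1 (h ▸ (closure_le M).2 hAM))

variable [Finite G]

theorem exists_mem_typeA1 (hF : Cfsg.fittingHallOf M ≠ ⊥) (hFd : Cfsg.fittingHallOf M ≤ ⁅M, M⁆) :
    ∃ a ∈ Cfsg.typeA1 M, a ≠ 1 := by
  obtain ⟨⟨x, hx⟩, hx1⟩ := (nontrivial_iff_exists_ne (1 : Cfsg.fittingHallOf M)).1
    ((nontrivial_iff_ne_bot _).2 hF)
  have hx1' : x ≠ 1 := fun e => hx1 (Subtype.ext e)
  refine ⟨x, ⟨?_, hx1'⟩, hx1'⟩
  rw [Cfsg.typeCore]
  split
  · exact hFd hx
  · exact hx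

/-- The three sets, their common properties. -/
theorem sets_spec (hF : Cfsg.fittingHallOf M ≠ ⊥) (hFd : Cfsg.fittingHallOf M ≤ ⁅M, M⁆) {A : Set G}
    (hA : A = Cfsg.typeA1 M ∨ A = setA M ∨ A = setA0 M) :
    A ⊆ setA0 M ∧ (∃ a ∈ A, a ≠ 1) ∧ ∀ m ∈ M, ∀ a ∈ A, m * a * m⁻¹ ∈ A := by
  obtain ⟨a, ha, ha1⟩ := exists_mem_typeA1 hF hFd
  rcases hA with rfl | rfl | rfl
  · exact ⟨typeA1_subset_typeA0 hFd, ⟨a, ha, ha1⟩, fun m hm b hb => conj_mem_typeA1 hm hb⟩
  · exact ⟨typeA_subset_typeA0 M, ⟨a, typeA1_subset_typeA hFd ha, ha1⟩,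
      fun m hm b hb => conj_mem_typeA hm hb⟩
  · exact ⟨subset_rfl, ⟨a, typeA1_subset_typeA0 hFd ha, ha1⟩, fun m hm b hb => conj_mem_typeA0 hm hb⟩

omit [Finite G] in
theorem supportR_spec (S : Support M) {a : G} (ha : a ∈ setA0 M) :
    (centralizer ({a} : Set G) ≤ M ∧ Cfsg.supportR M a = ⊥) ∨
      ∃ L : Subgroup G, IsCoatom L ∧ centralizer ({a} : Set G) ≤ L ∧
        ¬ centralizer ({a} : Set G) ≤ M ∧
        Cfsg.supportR M a = Cfsg.fittingHallOf L ⊓ centralizer ({a} : Set G) := by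
  by_cases h : centralizer ({a} : Set G) ≤ M
  · exact Or.inl ⟨h, supportR_eq_bot h⟩
  · obtain ⟨-, hu⟩ := S.unique a ha h
    obtain ⟨L, hL, hxL⟩ := hu.exists
    exact Or.inr ⟨L, hL, hxL, h, supportR_eq h hL hxL hu⟩

/-- The Dade hypothesis for a subset of A₀(M). -/
theorem dadeHypothesis (S : Support M) {A : Set G} (hA : A ⊆ setA0 M)
    (hinv : ∀ m ∈ M, ∀ a ∈ A, m * a * m⁻¹ ∈ A) :
    Cfsg.DadeHypothesis A M (Cfsg.supportR M) := by
  refine ⟨fun h => one_not_mem_typeA0 M (hA h), fun a ha => typeA0_subset M (hA ha), hinv,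
    fun a ha g hg => S.fusion a (hA ha) g (hA hg), fun a _ => supportR_le_centralizer M a,
    fun a ha c hc u hu => ?_, fun a ha => ?_, fun a ha => ?_, fun a ha b hb => ?_⟩
  · rcases supportR_spec S (hA ha) with ⟨-, e⟩ | ⟨L, hL, hxL, hn, e⟩
    · rw [e, mem_bot] at hu ⊢
      simp [hu]
    · rw [e] at hu ⊢
      exact Coprime.conj_mem ((S.supporting a (hA ha) hn L hL hxL).2.1 hc) hu
  · rcases supportR_spec S (hA ha) with ⟨-, e⟩ | ⟨L, hL, hxL, hn, e⟩
    · rw [e, bot_inf_eq]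
    · rw [e]
      exact (S.supporting a (hA ha) hn L hL hxL).2.2.1.2.2.1
  · rcases supportR_spec S (hA ha) with ⟨h, e⟩ | ⟨L, hL, hxL, hn, e⟩
    · rw [e, bot_sup_eq, inf_eq_right.2 h]
    · rw [e]
      obtain ⟨h1, h2, -, h4⟩ := (S.supporting a (hA ha) hn L hL hxL).2.2.1
      refine le_antisymm (sup_le h1 h2) fun c hc => ?_
      obtain ⟨p, hp, q, hq, rfl⟩ := h4 c hc
      exact mul_mem_sup hp hq
  · rcases supportR_spec S (hA ha) with ⟨-, e⟩ | ⟨L, hL, hxL, hn, e⟩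
    · rw [e, card_bot]
      exact Nat.coprime_one_left _
    · rw [e]
      exact ((S.supporting a (hA ha) hn L hL hxL).2.2.2.1 b (hA hb)).coprime_dvd_left
        (card_dvd_of_le inf_le_left)

/-- PF (8.15): normaliser and Dade hypothesis. -/
theorem normalizer_and_dade [IsSimpleGroup G] (hM : IsCoatom M) (S : Support M)
    (hF : Cfsg.fittingHallOf M ≠ ⊥) (hFd : Cfsg.fittingHallOf M ≤ ⁅M, M⁆) {A : Set G}
    (hA : A = Cfsg.typeA1 M ∨ A = setA M ∨ A = setA0 M) :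
    normalizer A = M ∧ Cfsg.DadeHypothesis A M (Cfsg.supportR M) := by
  obtain ⟨h1, h2, h3⟩ := sets_spec hF hFd hA
  exact ⟨normalizer_eq_of_subset hM (fun a ha => typeA0_subset M (h1 ha)) h2 h3,
    dadeHypothesis S h1 h3⟩

/-- For M of Type II the three sets are TI-subsets with normaliser M. -/
theorem typeII_ti [IsSimpleGroup G] (hM : IsCoatom M) (S : Support M) (hII : Cfsg.IsOfTypeII M)
    {A : Set G} (hA : A = Cfsg.typeA1 M ∨ A = setA M ∨ A = setA0 M) :
    Cfsg.IsTISubset A ∧ normalizer A = M := by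
  obtain ⟨W₁, U, W₂, hP, -, -, hTI, -⟩ := id hII
  have hFne : Cfsg.fittingHallOf M ≠ ⊥ := fun e => by
    have h := hP.H_not_cyclic
    rw [e] at h
    exact h inferInstance
  have hFd := TypeP.core_le_derived hP
  have hFF : Cfsg.fittingHallOf M ≤ Cfsg.fittingOf M := hP.fitting_eq ▸ le_sup_left
  have hNF : normalizer (Cfsg.fittingOf M : Set G) = M := by
    refine normalizer_eq_of_subset (A := (Cfsg.fittingOf M : Set G)) hM
      (hP.fitting_le.trans (TypeP.derived_le M)) ?_ ?_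
    · obtain ⟨⟨x, hx⟩, hx1⟩ := (nontrivial_iff_exists_ne (1 : Cfsg.fittingHallOf M)).1
        ((nontrivial_iff_ne_bot _).2 hFne)
      exact ⟨x, hFF hx, fun e => hx1 (Subtype.ext e)⟩
    · rintro m hm _ ⟨a, ha, rfl⟩
      exact ⟨⟨m, hm⟩ * a * ⟨m, hm⟩⁻¹,
        (inferInstance : (Cfsg.fittingSubgroup M).Normal).conj_mem a ha ⟨m, hm⟩, rfl⟩
  have hC : ∀ x ∈ setA0 M, centralizer ({x} : Set G) ≤ M := by
    intro x hx
    by_contra h
    obtain ⟨hx1, -⟩ := S.unique x hx h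
    have hxF : x ∈ Cfsg.fittingOf M := hFF (typeCore_eq_core (Or.inr hII) ▸ hx1.1)
    refine h fun c hc => ?_
    by_contra hcM
    refine hx1.2 (hTI c (hNF.symm ▸ hcM) x hxF ?_)
    rw [mem_centralizer_singleton_iff.1 hc, mul_inv_cancel_right]
    exact hxF
  obtain ⟨h1, h2, h3⟩ := sets_spec hFne hFd hA
  have hN : normalizer A = M :=
    normalizer_eq_of_subset hM (fun a ha => typeA0_subset M (h1 ha)) h2 h3
  refine ⟨fun g hg x hx hgx => ?_, hN⟩
  obtain ⟨m, hm, e⟩ := S.fusion x (h1 hx) g (h1 hgx)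
  refine absurd ?_ (hN ▸ hg)
  have : m⁻¹ * g ∈ centralizer ({x} : Set G) := by
    refine mem_centralizer_singleton_iff.2 ?_
    calc m⁻¹ * g * x = m⁻¹ * (g * x * g⁻¹) * g := by group
      _ = m⁻¹ * (m * x * m⁻¹) * g := by rw [e]
      _ = x * (m⁻¹ * g) := by group
  rw [show g = m * (m⁻¹ * g) by group]
  exact mul_mem hm (hC x (h1 hx) this)

end Cfsg.Agent.OddOrder.PF8
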