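import Cfsg.Agent.OddOrder.PF8.Facts
import Cfsg.Agent.OddOrder.PF10.CoverInst
import Cfsg.Agent.OddOrder.BG16.Instance
import Cfsg.Agent.S1379

/-!
# The facts used in §8 hold
-/

set_option autoImplicit false

universe u

namespace Cfsg.Agent.OddOrder.PF8

variable {G : Type u} [Group G] [Finite G]

theorem support (hG : Cfsg.IsMinSimpleOddOrder G) {M : Subgroup G} (hM : IsCoatom M) : Support M :=
  PF10.support_of_facts hG (BG16.sectionFacts hG) hM

theorem localFacts (hG : Cfsg.IsMinSimpleOddOrder G) : LocalFacts G :=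
  let F := BG16.sectionFacts hG
  LocalFacts.of_interfaces (fun _ hM => support hG hM) F.s1351
    (fun M hM K hc hK => (F.s1352 M hM K hc hK).1)
    (fun M hM => ⟨(F.s1355 M hM).2.1, (F.s1355 M hM).2.2.1, (F.s1355 M hM).2.2.2.1⟩)
    (fun M K U hM h hne => (F.s1357 M hM K U h hne).1)
    (fun M K U hM h hK => (F.s1365 M hM K U h hK).1)
    (fun _ _ _ hM h => (BG16.classification hG F hM h).1)
    (fun _ _ _ hM h => (BG16.classification hG F hM h).2.2.1)
    F.s1378.2 (S1379.result hG).1
    (fun M hM x hx hx1 x' hx' hx'1 hσ =>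
      (F.s1432 M hM x hx hx1 x' hx' hx'1 hσ).imp (fun h => h.1) fun h => h.2.2.2)

end Cfsg.Agent.OddOrder.PF8
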