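import Cfsg.Prelude.Def_OddOrderLocal
import Cfsg.Agent.Cores.Basic

/-!
# Isomorphism invariance of M_F, σ(M), M_σ and κ(M)
-/

set_option autoImplicit false

namespace Cfsg.Agent.OddOrder.PF8

open Subgroup

variable {G G' : Type*} [Group G] [Group G'] (e : G ≃* G') (M : Subgroup G)

/-- The isomorphism of `M` with its image. -/
noncomputable def mapEquiv : M ≃* ↥(M.map e.toMonoidHom) :=
  M.equivMapOfInjective e.toMonoidHom e.injective

theorem coe_mapEquiv (x : M) : (mapEquiv e M x : G') = e x := rfl

theorem map_subtype_map (K : Subgroup M) :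
    (K.map (mapEquiv e M).toMonoidHom).map (M.map e.toMonoidHom).subtype =
      (K.map M.subtype).map e.toMonoidHom := by
  rw [Subgroup.map_map, Subgroup.map_map]
  congr 1

theorem fittingHall_map_le {A B : Type*} [Group A] [Group B] (f : A ≃* B) :
    (Cfsg.fittingHall A).map f.toMonoidHom ≤ Cfsg.fittingHall B := by
  rw [map_le_iff_le_comap, Cfsg.fittingHall]
  refine sSup_le fun N hN => ?_
  rw [← map_le_iff_le_comap]
  refine le_sSup ⟨hN.1.map _ f.surjective, ?_, ?_⟩
  · have := hN.2.1
    exact Group.nilpotent_of_mulEquiv (N.equivMapOfInjective f.toMonoidHom f.injective)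
  · rw [Cores.card_map_eq N f.injective, show f.toMonoidHom = (f : A →* B) from rfl,
      index_map_equiv]
    exact hN.2.2

theorem fittingHallOf_map :
    Cfsg.fittingHallOf (M.map e.toMonoidHom) = (Cfsg.fittingHallOf M).map e.toMonoidHom := by
  have h : (Cfsg.fittingHall M).map (mapEquiv e M).toMonoidHom =
      Cfsg.fittingHall (M.map e.toMonoidHom : Subgroup G') := by
    refine le_antisymm (fittingHall_map_le _) fun x hx => ?_
    obtain ⟨y, rfl⟩ := (mapEquiv e M).surjective x
    have := fittingHall_map_le (mapEquiv e M).symm (mem_map_of_mem _ hx)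
    rw [show (mapEquiv e M).symm.toMonoidHom (mapEquiv e M y) = y from
      (mapEquiv e M).symm_apply_apply y] at this
    exact mem_map_of_mem _ this
  rw [Cfsg.fittingHallOf, ← h, map_subtype_map]
  rfl

theorem derived_map :
    ⁅M.map e.toMonoidHom, M.map e.toMonoidHom⁆ = (⁅M, M⁆).map e.toMonoidHom :=
  (map_commutator _ _ _).symm

theorem card_map_equiv (K : Subgroup G) : Nat.card ↥(K.map e.toMonoidHom) = Nat.card K :=
  Cores.card_map_eq K e.injective

theorem map_symm_map (K : Subgroup G) :
    (K.map e.toMonoidHom).map e.symm.toMonoidHom = K := by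
  rw [Subgroup.map_map]
  convert map_id K
  ext x
  simp

variable [Finite G] [Finite G']

theorem sigma_map_subset : Cfsg.sigma M ⊆ Cfsg.sigma (M.map e.toMonoidHom) := by
  rintro p ⟨hp, hd, P, hP⟩
  have : Fact p.Prime := ⟨hp⟩
  have hsurj : Function.Surjective (mapEquiv e M).toMonoidHom := (mapEquiv e M).surjective
  refine ⟨hp, by rwa [card_map_equiv], P.mapSurjective hsurj, ?_⟩
  show normalizer (((((P : Subgroup M).map (mapEquiv e M).toMonoidHom).map
    (M.map e.toMonoidHom).subtype : Subgroup G')) : Set G') ≤ _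
  rw [map_subtype_map, ← map_equiv_normalizer_eq]
  exact map_mono hP

theorem sigma_map : Cfsg.sigma (M.map e.toMonoidHom) = Cfsg.sigma M := by
  refine Set.Subset.antisymm ?_ (sigma_map_subset e M)
  have := sigma_map_subset e.symm (M.map e.toMonoidHom)
  rwa [map_symm_map] at this

theorem sigmaCore_map :
    Cfsg.sigmaCore (M.map e.toMonoidHom) = (Cfsg.sigmaCore M).map e.toMonoidHom := by
  rw [Cfsg.sigmaCore, sigma_map, ← Cores.piCore_map_mulEquiv _ (mapEquiv e M)]
  exact map_subtype_map e M _

theorem kappa_map_subset : Cfsg.kappa M ⊆ Cfsg.kappa (M.map e.toMonoidHom) := by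
  rintro p ⟨hp, hd, hns, hP⟩
  haveI : Fact p.Prime := ⟨hp⟩
  refine ⟨hp, by rwa [card_map_equiv], by rwa [sigma_map], fun Q => ?_⟩
  set f := mapEquiv e M
  set P : Sylow p M := Q.mapSurjective (f := f.symm.toMonoidHom) f.symm.surjective with hPdef
  obtain ⟨hc, x, hx, hx1, y, hy, hy1, hxy⟩ := hP P
  have hPQ : (P : Subgroup M) = (Q : Subgroup _).map f.symm.toMonoidHom := Sylow.coe_mapSurjective _ _
  refine ⟨(MulEquiv.isCyclic (((Q : Subgroup _).equivMapOfInjective f.symm.toMonoidHom
    f.symm.injective).trans (MulEquiv.subgroupCongr hPQ.symm))).2 hc, f x, ?_, ?_, e y, ?_, ?_, ?_⟩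
  · rw [hPQ] at hx
    obtain ⟨z, hz, rfl⟩ := hx
    rw [show f (f.symm.toMonoidHom z) = z from f.apply_symm_apply z]
    exact hz
  · intro h
    exact hx1 (f.injective (by rw [h, map_one]))
  · rw [sigmaCore_map]
    exact mem_map_of_mem _ hy
  · simpa using hy1
  · show e (x : G) * e y = e y * e (x : G)
    rw [← map_mul, hxy, map_mul]

theorem kappa_map : Cfsg.kappa (M.map e.toMonoidHom) = Cfsg.kappa M := by
  refine Set.Subset.antisymm ?_ (kappa_map_subset e M)
  have := kappa_map_subset e.symm (M.map e.toMonoidHom)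
  rwa [map_symm_map] at this

end Cfsg.Agent.OddOrder.PF8
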