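import Cfsg.Agent.OddOrder.PF8.Dade
import Cfsg.Agent.OddOrder.PF8.Transport

/-!
# PF 8: supporting maximal subgroups

The facts used from the local analysis enter through the structure `LocalFacts`.
-/

set_option autoImplicit false

namespace Cfsg.Agent.OddOrder.PF8

open Subgroup
open Cfsg.Agent.OddOrder

variable {G : Type*} [Group G]

/-- The facts used from the local analysis of a minimal simple group of odd order. -/
structure LocalFacts (G : Type*) [Group G] : Prop where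
  support : ∀ M : Subgroup G, IsCoatom M → Support M
  core_le_derived : ∀ M : Subgroup G, IsCoatom M → Cfsg.fittingHallOf M ≤ ⁅M, M⁆
  typeCore_eq : ∀ M : Subgroup G, IsCoatom M → Cfsg.typeCore M = Cfsg.sigmaCore M
  typeI_iff : ∀ M : Subgroup G, IsCoatom M → (IsTypeI M ↔ Cfsg.kappa M = ∅)
  kappa_derived : ∀ M : Subgroup G, IsCoatom M → ∀ p ∈ Cfsg.kappa M, ¬ p ∣ Nat.card ↥⁅M, M⁆
  sigma_conj : ∀ M N : Subgroup G, IsCoatom M → IsCoatom N →
    (Cfsg.sigma M ∩ Cfsg.sigma N).Nonempty → ∃ g : G, N = M.map (MulAut.conj g).toMonoidHom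
  tilde_disjoint : ∀ M N : Subgroup G, IsCoatom M → IsCoatom N →
    (∀ g : G, N ≠ M.map (MulAut.conj g).toMonoidHom) →
    Cfsg.tildeOf M ((Cfsg.sigmaCore M : Set G) \ {1}) ∩
      Cfsg.tildeOf N ((Cfsg.sigmaCore N : Set G) \ {1}) = ∅
  outside_sigma : ∀ M : Subgroup G, IsCoatom M → ∀ x ∈ Cfsg.sigmaCore M, x ≠ 1 →
    ∀ x' : G, x' ∈ M ⊓ centralizer ({x} : Set G) → x' ≠ 1 →
    (∀ p : ℕ, p.Prime → p ∣ orderOf x' → p ∉ Cfsg.sigma M) →
    (∀ p : ℕ, p.Prime → p ∣ orderOf x' → p ∈ Cfsg.kappa M) ∨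
      ∀ L : Subgroup G, IsCoatom L → centralizer ({x'} : Set G) ≤ L → L = M

variable [Finite G] (F : LocalFacts G)

include F

theorem mem_typeA_iff {M : Subgroup G} (hM : IsCoatom M) {a : G} :
    a ∈ setA M ↔ a ∈ M ∧ a ≠ 1 ∧ (Cfsg.kappa M = ∅ ∨ a ∈ ⁅M, M⁆) ∧
      ∃ x ∈ Cfsg.sigmaCore M, x ≠ 1 ∧ a * x = x * a := by
  rw [setA, ← F.typeCore_eq M hM]
  split
  · next h =>
    rw [typeCore_eq_core (Or.inl h)]
    exact ⟨fun ⟨a1, a2, a3⟩ => ⟨a1, a2, Or.inl ((F.typeI_iff M hM).1 h), a3⟩,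
      fun ⟨a1, a2, _, a3⟩ => ⟨a1, a2, a3⟩⟩
  · next h =>
    refine ⟨fun ⟨a1, a2, a3⟩ => ⟨TypeP.derived_le M a1, a2, Or.inr a1, a3⟩, ?_⟩
    rintro ⟨-, a2, a4, a3⟩
    exact ⟨a4.resolve_left fun e => h ((F.typeI_iff M hM).2 e), a2, a3⟩

omit [Finite G] in
theorem mem_typeA1_iff {M : Subgroup G} (hM : IsCoatom M) {a : G} :
    a ∈ Cfsg.typeA1 M ↔ a ∈ Cfsg.sigmaCore M ∧ a ≠ 1 := by
  rw [Cfsg.typeA1, F.typeCore_eq M hM]
  rfl

theorem conj_mem_typeA_map {M : Subgroup G} (hM : IsCoatom M) (g : G) {a : G}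
    (ha : a ∈ setA M) :
    g * a * g⁻¹ ∈ setA (M.map (MulAut.conj g).toMonoidHom) := by
  have hM' : IsCoatom (M.map (MulAut.conj g).toMonoidHom) :=
    (OrderIso.isCoatom_iff (MulAut.conj g).mapSubgroup M).mpr hM
  obtain ⟨a1, a2, a4, x, hx, hx1, hax⟩ := (mem_typeA_iff F hM).1 ha
  refine (mem_typeA_iff F hM').2 ⟨⟨a, a1, rfl⟩, conj_ne_one a2, ?_, g * x * g⁻¹, ?_,
    conj_ne_one hx1, conj_commute hax⟩
  · rw [kappa_map, derived_map]
    exact a4.imp_right fun h => ⟨a, h, rfl⟩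
  · rw [sigmaCore_map]
    exact ⟨x, hx, rfl⟩

omit F in
theorem prime_mem_sigma {M : Subgroup G} {x : G} (hx : x ∈ Cfsg.sigmaCore M) {p : ℕ} (hp : p.Prime)
    (hd : p ∣ orderOf x) : p ∈ Cfsg.sigma M := by
  have h1 : p ∣ Nat.card (Cfsg.sigmaCore M) := hd.trans (orderOf_dvd_natCard (Cfsg.sigmaCore M) hx)
  rw [Cfsg.sigmaCore, Cores.card_map_eq _ M.subtype_injective] at h1
  exact Cores.piCore_isPiNumber (G := M) (Cfsg.sigma M) p hp h1

/-- PF (8.17b): elements of A₁(S) ∩ A(T) for non-conjugate S, T. -/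
theorem centralizer_of_mem {S T : Subgroup G} (hS : IsCoatom S) (hT : IsCoatom T)
    (hnc : ∀ g : G, T.map (MulAut.conj g).toMonoidHom ≠ S) {x : G}
    (hx : x ∈ Cfsg.typeA1 S ∩ setA T) :
    ¬ centralizer ({x} : Set G) ≤ S ∧ centralizer ({x} : Set G) ≤ T := by
  obtain ⟨hxS, hxT⟩ := hx
  obtain ⟨hxS, hx1⟩ := (mem_typeA1_iff F hS).1 hxS
  have hσ : ∀ p : ℕ, p.Prime → p ∣ orderOf x → p ∉ Cfsg.sigma T := by
    intro p hp hd hpT
    obtain ⟨g, hg⟩ := F.sigma_conj T S hT hS ⟨p, hpT, prime_mem_sigma hxS hp hd⟩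
    exact hnc g hg.symm
  obtain ⟨p, hp, hpd⟩ : ∃ p : ℕ, p.Prime ∧ p ∣ orderOf x :=
    Nat.exists_prime_and_dvd (fun e => hx1 (orderOf_eq_one_iff.1 e))
  have hxA1 : x ∉ Cfsg.typeA1 T := fun h =>
    hσ p hp hpd (prime_mem_sigma ((mem_typeA1_iff F hT).1 h).1 hp hpd)
  refine ⟨fun hCS => ?_, ?_⟩
  · obtain ⟨hxT', -, hxd, y, hy, hy1, hxy⟩ := (mem_typeA_iff F hT).1 hxT
    rcases F.outside_sigma T hT y hy hy1 x ⟨hxT', mem_centralizer_singleton_iff.2 hxy⟩ hx1 hσ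
      with hκ | hu
    · rcases hxd with h | h
      · exact (h ▸ hκ p hp hpd : p ∈ (∅ : Set ℕ))
      · exact F.kappa_derived T hT p (hκ p hp hpd) (hpd.trans (orderOf_dvd_natCard ⁅T, T⁆ h))
    · refine hnc 1 ?_
      rw [Coprime.map_conj_one]
      exact (hu S hS hCS).symm
  · by_contra h
    exact hxA1 ((F.support T hT).unique x (typeA_subset_typeA0 T hxT) h).1

omit [Finite G] in
theorem mem_inter_of_centralizer {S T : Subgroup G} (hS : IsCoatom S) (hT : IsCoatom T) {x : G}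
    (hx : x ∈ setA0 S) (h1 : ¬ centralizer ({x} : Set G) ≤ S)
    (h2 : centralizer ({x} : Set G) ≤ T) :
    x ∈ Cfsg.typeA1 S ∩ setA T :=
  ⟨((F.support S hS).unique x hx h1).1,
    ((F.support S hS).supporting x hx h1 T hT h2).2.2.2.2.1.1⟩

/-- PF (8.17a). -/
theorem supports_iff {S T : Subgroup G} (hS : IsCoatom S) (hT : IsCoatom T)
    (hnc : ∀ g : G, T.map (MulAut.conj g).toMonoidHom ≠ S) :
    Supports T S ↔ (Cfsg.typeA1 S ∩ setA T).Nonempty := by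
  constructor
  · rintro ⟨-, x, hx, h1, h2⟩
    exact ⟨x, mem_inter_of_centralizer F hS hT hx h1 h2⟩
  · rintro ⟨x, hx⟩
    obtain ⟨h1, h2⟩ := centralizer_of_mem F hS hT hnc hx
    exact ⟨hT, x, typeA1_subset_typeA0 (F.core_le_derived S hS) hx.1, h1, h2⟩

omit F [Finite G] in
theorem exists_pow_eq {x r : G} (hc : Commute x r) (h : (orderOf x).Coprime (orderOf r)) :
    ∃ k : ℕ, (x * r) ^ k = x := by
  obtain ⟨k, hk1, hk0⟩ := Nat.chineseRemainder h 1 0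
  refine ⟨k, ?_⟩
  rw [hc.mul_pow, pow_eq_pow_iff_modEq.2 hk1, pow_eq_pow_iff_modEq.2 hk0, pow_one, pow_zero,
    mul_one]

/-- PF (8.17c). -/
theorem exists_supports_iff {S T : Subgroup G} (hS : IsCoatom S) (hT : IsCoatom T)
    (hnc : ∀ g : G, T.map (MulAut.conj g).toMonoidHom ≠ S) :
    (∃ g : G, Supports (T.map (MulAut.conj g).toMonoidHom) S) ↔
      (Cfsg.tildeOf S (Cfsg.typeA1 S) ∩ Cfsg.tildeOf T (setA T)).Nonempty := by
  have hTg : ∀ g : G, IsCoatom (T.map (MulAut.conj g).toMonoidHom) := fun g =>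
    (OrderIso.isCoatom_iff (MulAut.conj g).mapSubgroup T).mpr hT
  have hncg : ∀ g g' : G,
      (T.map (MulAut.conj g).toMonoidHom).map (MulAut.conj g').toMonoidHom ≠ S := fun g g' => by
    rw [Coprime.map_conj_map_conj]
    exact hnc _
  constructor
  · rintro ⟨g, hg⟩
    obtain ⟨x, hx1, hxA⟩ := (supports_iff F hS (hTg g) (hncg g)).1 hg
    refine ⟨x, ⟨x, hx1, 1, one_mem _, 1, by group⟩, ?_⟩
    have h := conj_mem_typeA_map F (hTg g) g⁻¹ hxA
    rw [Coprime.map_conj_map_conj, inv_mul_cancel, Coprime.map_conj_one] at h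
    exact ⟨_, h, 1, one_mem _, g, by group⟩
  · rintro ⟨z, ⟨x, hx, r, hr, u, hu⟩, ⟨y, hy, s, hs, v, hv⟩⟩
    have hy1 : y ∉ Cfsg.typeA1 T := by
      intro h
      have hd := F.tilde_disjoint S T hS hT (fun g e => hnc g⁻¹ (by
        rw [e, Coprime.map_conj_map_conj, inv_mul_cancel, Coprime.map_conj_one]))
      refine (Set.eq_empty_iff_forall_notMem.1 hd z) ⟨⟨x, ?_, r, hr, u, hu⟩, ⟨y, ?_, s, hs, v, hv⟩⟩
      · exact (mem_typeA1_iff F hS).1 hx
      · exact (mem_typeA1_iff F hT).1 h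
    have hs1 : s = 1 := by
      rw [supportR_eq_bot (not_not.1 fun h =>
        hy1 ((F.support T hT).unique y (typeA_subset_typeA0 T hy) h).1), mem_bot] at hs
      exact hs
    rw [hs1, mul_one] at hv
    have hx0 : x ∈ setA0 S := typeA1_subset_typeA0 (F.core_le_derived S hS) hx
    have hxr : x * r = (u⁻¹ * v) * y * (u⁻¹ * v)⁻¹ := by
      calc x * r = u⁻¹ * (u * (x * r) * u⁻¹) * u := by group
        _ = u⁻¹ * (v * y * v⁻¹) * u := by rw [← hu, hv]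
        _ = _ := by group
    have hcomm : Commute x r :=
      (mem_centralizer_singleton_iff.1 (supportR_le_centralizer S x hr)).symm
    have hcop : (orderOf x).Coprime (orderOf r) := by
      rcases supportR_spec (F.support S hS) hx0 with ⟨-, e⟩ | ⟨L, hL, hxL, hn, e⟩
      · rw [e, mem_bot] at hr
        simp [hr]
      · rw [e] at hr
        refine (((F.support S hS).supporting x hx0 hn L hL hxL).2.2.2.1 x hx0).symm.of_dvd
          (Subgroup.orderOf_dvd_natCard (S ⊓ centralizer ({x} : Set G))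
            ⟨typeA0_subset S hx0, mem_centralizer_singleton_iff.2 rfl⟩)
          (Subgroup.orderOf_dvd_natCard _ hr.1)
    obtain ⟨k, hk⟩ := exists_pow_eq hcomm hcop
    obtain ⟨a1, -, a4, w, hw, hw1, haw⟩ :=
      (mem_typeA_iff F (hTg (u⁻¹ * v))).1 (hxr ▸ conj_mem_typeA_map F hT (u⁻¹ * v) hy)
    refine ⟨u⁻¹ * v, (supports_iff F hS (hTg _) (hncg _)).2 ⟨x, hx, ?_⟩⟩
    refine (mem_typeA_iff F (hTg _)).2 ⟨hk ▸ pow_mem a1 k, ((mem_typeA1_iff F hS).1 hx).2,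
      a4.imp_right fun h => hk ▸ pow_mem h k, w, hw, hw1, ?_⟩
    have := (show Commute (x * r) w from haw).pow_left k
    rwa [hk] at this

/-- PF (8.17d): no mutual support. -/
theorem inter_eq_empty_or {S T : Subgroup G} (hS : IsCoatom S) (hT : IsCoatom T)
    (hnc : ∀ g : G, T.map (MulAut.conj g).toMonoidHom ≠ S) :
    Cfsg.tildeOf S (Cfsg.typeA1 S) ∩ Cfsg.tildeOf T (setA T) = ∅ ∨
      Cfsg.tildeOf T (Cfsg.typeA1 T) ∩ Cfsg.tildeOf S (setA S) = ∅ := by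
  by_contra h
  push Not at h
  obtain ⟨h1, h2⟩ := h
  have hnc' : ∀ g : G, S.map (MulAut.conj g).toMonoidHom ≠ T := fun g e => hnc g⁻¹ (by
    rw [← e, Coprime.map_conj_map_conj, inv_mul_cancel, Coprime.map_conj_one])
  obtain ⟨g, hL, x, hx, hxS, hxT⟩ := (exists_supports_iff F hS hT hnc).2 h1
  obtain ⟨-, -, -, hcop, -, hI⟩ := (F.support S hS).supporting x hx hxS _ hL hxT
  obtain ⟨k, hk⟩ := (exists_supports_iff F hT hS hnc').2 h2
  have hSk : IsCoatom (S.map (MulAut.conj k).toMonoidHom) := hk.1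
  obtain ⟨w, hwT, hwS⟩ := (supports_iff F hT hSk (fun g e => hnc' (g * k) (by
    rw [← Coprime.map_conj_map_conj]; exact e))).1 hk
  have hw' := conj_mem_typeA_map F hSk k⁻¹ hwS
  rw [Coprime.map_conj_map_conj, inv_mul_cancel, Coprime.map_conj_one] at hw'
  obtain ⟨b1, b2, -, v, hv, hv1, hbv⟩ := (mem_typeA_iff F hS).1 hw'
  have hv0 : v ∈ setA0 S :=
    typeA1_subset_typeA0 (F.core_le_derived S hS) ((mem_typeA1_iff F hS).2 ⟨hv, hv1⟩)
  have e1 : orderOf (k⁻¹ * w * k⁻¹⁻¹) = orderOf w := by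
    rw [← MulAut.conj_apply, MulEquiv.orderOf_eq]
  have e2 : orderOf w ∣ Nat.card (Cfsg.fittingHallOf (T.map (MulAut.conj g).toMonoidHom)) := by
    rw [← typeCore_eq_core hI, F.typeCore_eq _ hL, sigmaCore_map, card_map_equiv]
    exact orderOf_dvd_natCard _ ((mem_typeA1_iff F hT).1 hwT).1
  have := (hcop v hv0).symm.of_dvd
    (orderOf_dvd_natCard (S ⊓ centralizer ({v} : Set G))
      ⟨b1, mem_centralizer_singleton_iff.2 hbv⟩)
    (e1 ▸ e2)
  exact b2 (orderOf_eq_one_iff.1 ((Nat.coprime_self _).1 this))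

end Cfsg.Agent.OddOrder.PF8
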