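import Cfsg.Agent.OddOrder.PF8.Supporting

/-!
# PF 8: `LocalFacts` from the interfaces of the local analysis

The interfaces (statements of Bender-Glauberman, section 16) enter as hypotheses.
-/

set_option autoImplicit false

namespace Cfsg.Agent.OddOrder.PF8

open Subgroup
open Cfsg.Agent.OddOrder

variable {G : Type*} [Group G] [Finite G]

omit [Finite G] in
theorem core_le_self (M : Subgroup G) : Cfsg.sigmaCore M ≤ M := map_subtype_le _

theorem sigmaCore_normalizer (M : Subgroup G) : M ≤ normalizer (Cfsg.sigmaCore M : Set G) := by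
  intro m hm
  rw [mem_normalizer_iff]
  intro x
  constructor
  · rintro ⟨a, ha, rfl⟩
    exact ⟨⟨m, hm⟩ * a * ⟨m, hm⟩⁻¹, (Cfsg.piCore_normal _ M).conj_mem a ha _, rfl⟩
  · rintro ⟨a, ha, e⟩
    refine ⟨⟨m, hm⟩⁻¹ * a * ⟨m, hm⟩⁻¹⁻¹, (Cfsg.piCore_normal _ M).conj_mem a ha _, ?_⟩
    simp only [map_mul, map_inv, subtype_apply, inv_inv] at e ⊢
    rw [e]
    group

/-- Primes of κ(M) do not divide the order of `U M_σ`. -/
theorem not_dvd_of_decomposition {M K U : Subgroup G} (h : Cfsg.IsSigmaDecomposition M K U) {p : ℕ}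
    (hp : p ∈ Cfsg.kappa M) : ¬ p ∣ Nat.card ↥(U ⊔ Cfsg.sigmaCore M) := by
  obtain ⟨hpp, -, hns, -⟩ := id hp
  have hK' := h.hall.2.2 p hpp hp
  have hU : U ≤ normalizer (Cfsg.sigmaCore M : Set G) :=
    h.compl.1.trans (sigmaCore_normalizer M)
  intro hd
  have h1 : p ∣ Nat.card U * Nat.card (Cfsg.sigmaCore M) := by
    rw [sup_comm, Coprime.card_sup hU (le_bot_iff.1 ((inf_comm _ _).trans_le
      ((inf_le_inf_left U le_sup_right).trans h.compl.2.2.1.le)))] at hd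
    rwa [mul_comm]
  rcases hpp.dvd_mul.1 h1 with h1 | h1
  · have e1 := H41.IsComplIn.card_eq h.compl
    have e2 := (relIndex_mul_relIndex ⊥ K M bot_le h.hall.1)
    have e3 := (relIndex_mul_relIndex ⊥ K (K ⊔ Cfsg.sigmaCore M) bot_le le_sup_left)
    rw [relIndex_bot_left, relIndex_bot_left] at e2 e3
    rw [← e2, ← e3, mul_left_comm] at e1
    exact hK' (h1.trans (Dvd.intro _ (Nat.eq_of_mul_eq_mul_left Nat.card_pos e1).symm))
  · rw [Cfsg.sigmaCore, Cores.card_map_eq _ M.subtype_injective] at h1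
    exact hns (Cores.piCore_isPiNumber (G := M) (Cfsg.sigma M) p hpp h1)

/-- The local facts from the interfaces. -/
theorem LocalFacts.of_interfaces
    (hS : ∀ M : Subgroup G, IsCoatom M → Support M)
    (h1351 : ∀ M : Subgroup G, IsCoatom M → (∃ K : Subgroup G, Cfsg.IsPiHallOf (Cfsg.kappa M) K M) ∧
      ∀ K : Subgroup G, Cfsg.IsPiHallOf (Cfsg.kappa M) K M → IsCyclic K)
    (h1352 : ∀ M : Subgroup G, IsCoatom M → ∀ K : Subgroup G, IsCyclic K →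
      Cfsg.IsPiHallOf (Cfsg.kappa M) K M → ∃ U : Subgroup G, Cfsg.IsSigmaDecomposition M K U)
    (h1355 : ∀ M : Subgroup G, IsCoatom M → Cfsg.fittingHallOf M ≤ Cfsg.sigmaCore M ∧
      Cfsg.sigmaCore M ≤ ⁅M, M⁆ ∧ ⁅M, M⁆ < M)
    (h1357 : ∀ M K U : Subgroup G, IsCoatom M → Cfsg.IsSigmaDecomposition M K U →
      Cfsg.fittingHallOf M ≠ Cfsg.sigmaCore M → U = ⊥)
    (h1365 : ∀ M K U : Subgroup G, IsCoatom M → Cfsg.IsSigmaDecomposition M K U → K ≠ ⊥ →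
      ⁅M, M⁆ = U ⊔ Cfsg.sigmaCore M)
    (h1380 : ∀ M K U : Subgroup G, IsCoatom M → Cfsg.IsSigmaDecomposition M K U →
      (IsTypeI M ↔ (K = ⊥ ∧ U ≠ ⊥)))
    (h1382 : ∀ M K U : Subgroup G, IsCoatom M → Cfsg.IsSigmaDecomposition M K U →
      ((Cfsg.IsOfTypeIII M ∨ Cfsg.IsOfTypeIV M) ↔
        (K ≠ ⊥ ∧ U = ⊥ ∧ Cfsg.fittingHallOf M ≠ Cfsg.sigmaCore M)))
    (h1378 : ∀ M N : Subgroup G, IsCoatom M → IsCoatom N →
      (Cfsg.sigma M ∩ Cfsg.sigma N).Nonempty → ∃ g : G, N = M.map (MulAut.conj g).toMonoidHom)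
    (h1379 : ∀ M N : Subgroup G, IsCoatom M → IsCoatom N →
      (∀ g : G, N ≠ M.map (MulAut.conj g).toMonoidHom) →
      Cfsg.tildeOf M ((Cfsg.sigmaCore M : Set G) \ {1}) ∩
        Cfsg.tildeOf N ((Cfsg.sigmaCore N : Set G) \ {1}) = ∅)
    (h1432 : ∀ M : Subgroup G, IsCoatom M → ∀ x ∈ Cfsg.sigmaCore M, x ≠ 1 →
      ∀ x' : G, x' ∈ M ⊓ centralizer ({x} : Set G) → x' ≠ 1 →
      (∀ p : ℕ, p.Prime → p ∣ orderOf x' → p ∉ Cfsg.sigma M) →
      (∀ p : ℕ, p.Prime → p ∣ orderOf x' → p ∈ Cfsg.kappa M) ∨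
        ∀ L : Subgroup G, IsCoatom L → centralizer ({x'} : Set G) ≤ L → L = M) :
    LocalFacts G := by
  have hdec : ∀ M : Subgroup G, IsCoatom M → ∃ K U : Subgroup G,
      Cfsg.IsSigmaDecomposition M K U ∧ (K = ⊥ ↔ Cfsg.kappa M = ∅) ∧ (K = ⊥ → U ≠ ⊥) := by
    intro M hM
    obtain ⟨⟨K, hK⟩, hcyc⟩ := h1351 M hM
    obtain ⟨U, hU⟩ := h1352 M hM K (hcyc K hK) hK
    refine ⟨K, U, hU, ⟨fun e => ?_, fun e => ?_⟩, fun e eU => ?_⟩
    · refine Set.eq_empty_of_forall_notMem fun p hp => hK.2.2 p hp.1 hp ?_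
      rw [e, relIndex_bot_left]
      exact hp.2.1
    · by_contra hne
      obtain ⟨p, hp, hd⟩ := Nat.exists_prime_and_dvd (fun h => hne (card_eq_one.1 h))
      exact (e ▸ hK.2.1 p hp hd : p ∈ (∅ : Set ℕ))
    · obtain ⟨-, h2, h3⟩ := h1355 M hM
      refine h3.not_ge fun m hm => ?_
      obtain ⟨a, ha, b, hb, rfl⟩ := hU.compl.2.2.2 m hm
      rw [eU, mem_bot] at ha
      rw [e, bot_sup_eq] at hb
      rw [ha, one_mul]
      exact h2 hb
  refine ⟨hS, fun M hM => (h1355 M hM).1.trans (h1355 M hM).2.1, fun M hM => ?_, fun M hM => ?_,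
    fun M hM p hp => ?_, h1378, h1379, h1432⟩
  · obtain ⟨K, U, hU, -, hKU⟩ := hdec M hM
    rw [Cfsg.typeCore]
    split
    · next h =>
      obtain ⟨hK, hU1, -⟩ := (h1382 M K U hM hU).1 h
      rw [h1365 M K U hM hU hK, hU1, bot_sup_eq]
    · next h =>
      by_contra hne
      have hU1 := h1357 M K U hM hU hne
      exact h ((h1382 M K U hM hU).2 ⟨fun e => hKU e hU1, hU1, hne⟩)
  · obtain ⟨K, U, hU, hKκ, hKU⟩ := hdec M hM
    rw [h1380 M K U hM hU, hKκ]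
    exact ⟨fun h => h.1, fun h => ⟨h, hKU (hKκ.2 h)⟩⟩
  · obtain ⟨K, U, hU, hKκ, -⟩ := hdec M hM
    rw [h1365 M K U hM hU fun e => by simp [hKκ.1 e] at hp]
    exact not_dvd_of_decomposition hU hp

end Cfsg.Agent.OddOrder.PF8
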