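import Cfsg.Agent.OddOrder.PF8.Dade
import Cfsg.Agent.OddOrder.BG16.Exclusive

/-!
# The sets of the statements compared with the sets of `OddOrder.WeakType`

`Cfsg.typeA M ⊆ setA M` and `Cfsg.typeA0 M ⊆ setA0 M` in every case, with equality outside Type I.
-/

set_option autoImplicit false
set_option linter.unusedSectionVars false

namespace Cfsg.Agent.OddOrder.PF8

open Subgroup

variable {G : Type*} [Group G] [Finite G] {M : Subgroup G}

theorem typeA_eq_of_not_typeI (h : ¬ IsTypeI M) : Cfsg.typeA M = setA M := by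
  rw [setA, if_neg h, Cfsg.typeA, if_neg fun hI => h (IsTypeI.of_isOfTypeI hI)]

theorem typeA0_eq_of_not_typeI (h : ¬ IsTypeI M) : Cfsg.typeA0 M = setA0 M := by
  have h' : ¬ Cfsg.IsOfTypeI M := fun hI => h (IsTypeI.of_isOfTypeI hI)
  rw [Cfsg.typeA0, setA0, typeA_eq_of_not_typeI h]
  simp only [h, h']

theorem typeA_subset_setA (M : Subgroup G) : Cfsg.typeA M ⊆ setA M := by
  by_cases h : IsTypeI M
  · intro a ha
    rw [setA, if_pos h]
    rw [Cfsg.typeA] at ha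
    split at ha
    · exact ha
    · obtain ⟨ha', ha1, x, hx, hx1, hax⟩ := ha
      exact ⟨TypeP.derived_le M ha', ha1, x, typeCore_eq_core (Or.inl h) ▸ hx, hx1, hax⟩
  · exact (typeA_eq_of_not_typeI h).le

theorem typeA0_subset_setA0 (M : Subgroup G) : Cfsg.typeA0 M ⊆ setA0 M := by
  by_cases h : IsTypeI M
  · rintro a (ha | ⟨-, W₁, U, W₂, hP, -⟩)
    · exact Or.inl (typeA_subset_setA M ha)
    · exact absurd ⟨W₁, U, W₂, hP⟩ (BG16.typeI_not_typeP h)
  · exact (typeA0_eq_of_not_typeI h).le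

theorem conj_mem_frozenA {m a : G} (hm : m ∈ M) (ha : a ∈ Cfsg.typeA M) :
    m * a * m⁻¹ ∈ Cfsg.typeA M := by
  rw [Cfsg.typeA] at ha ⊢
  split at ha
  · next h =>
    obtain ⟨haM, ha1, x, hx, hx1, hax⟩ := ha
    rw [if_pos h]
    exact ⟨mul_mem (mul_mem hm haM) (inv_mem hm), conj_ne_one ha1, m * x * m⁻¹,
      Coprime.conj_mem (TypeP.le_normalizer_core M hm) hx, conj_ne_one hx1, conj_commute hax⟩
  · next h =>
    obtain ⟨haM, ha1, x, hx, hx1, hax⟩ := ha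
    rw [if_neg h]
    exact ⟨Coprime.conj_mem (TypeP.le_normalizer_derived M hm) haM, conj_ne_one ha1, m * x * m⁻¹,
      Coprime.conj_mem (le_normalizer_typeCore M hm) hx, conj_ne_one hx1, conj_commute hax⟩

theorem conj_mem_frozenA0 {m a : G} (hm : m ∈ M) (ha : a ∈ Cfsg.typeA0 M) :
    m * a * m⁻¹ ∈ Cfsg.typeA0 M := by
  rcases ha with ha | ⟨hI, W₁, U, W₂, hP, n, hn, w, hw, hw1, hw2, rfl⟩
  · exact Or.inl (conj_mem_frozenA hm ha)
  · exact Or.inr ⟨hI, W₁, U, W₂, hP, m * n, mul_mem hm hn, w, hw, hw1, hw2, by group⟩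

theorem typeA1_subset_frozenA (hFd : Cfsg.fittingHallOf M ≤ ⁅M, M⁆) :
    Cfsg.typeA1 M ⊆ Cfsg.typeA M := by
  rintro a ⟨ha, ha1⟩
  rw [Cfsg.typeA]
  split
  · next h =>
    rw [typeCore_eq_core (Or.inl (IsTypeI.of_isOfTypeI h))] at ha
    exact ⟨TypeP.core_le M ha, ha1, a, ha, ha1, rfl⟩
  · next h =>
    refine ⟨?_, ha1, a, ha, ha1, rfl⟩
    rw [Cfsg.typeCore] at ha
    split at ha
    · exact ha
    · exact hFd ha

/-- PF (8.15) for the sets of the statements. -/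
theorem normalizer_and_dade_frozen [IsSimpleGroup G] (hM : IsCoatom M) (S : Support M)
    (hF : Cfsg.fittingHallOf M ≠ ⊥) (hFd : Cfsg.fittingHallOf M ≤ ⁅M, M⁆) {A : Set G}
    (hA : A = Cfsg.typeA1 M ∨ A = Cfsg.typeA M ∨ A = Cfsg.typeA0 M) :
    normalizer A = M ∧ Cfsg.DadeHypothesis A M (Cfsg.supportR M) := by
  obtain ⟨a, ha, ha1⟩ := exists_mem_typeA1 hF hFd
  have key : A ⊆ setA0 M ∧ a ∈ A ∧ ∀ m ∈ M, ∀ b ∈ A, m * b * m⁻¹ ∈ A := by
    rcases hA with rfl | rfl | rfl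
    · exact ⟨typeA1_subset_typeA0 hFd, ha, fun m hm b hb => conj_mem_typeA1 hm hb⟩
    · exact ⟨(typeA_subset_setA M).trans (typeA_subset_typeA0 M), typeA1_subset_frozenA hFd ha,
        fun m hm b hb => conj_mem_frozenA hm hb⟩
    · exact ⟨typeA0_subset_setA0 M, Or.inl (typeA1_subset_frozenA hFd ha),
        fun m hm b hb => conj_mem_frozenA0 hm hb⟩
  exact ⟨normalizer_eq_of_subset hM (fun b hb => typeA0_subset M (key.1 hb)) ⟨a, key.2.1, ha1⟩
    key.2.2, dadeHypothesis S key.1 key.2.2⟩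

end Cfsg.Agent.OddOrder.PF8
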